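/-
Products of two elements of order `p` generating `p`-solvable subgroups (helper3).

* `not_both_regular` : with abelian Sylow subgroups, `y z ^ i` and `y z ^ j` are not both `p`-regular;
* `sum_regular_eq_zero` : a character outside the principal block sums to zero over a section of
  an element whose centraliser has a normal `p`-complement.
-/
import Cfsg.Agent.Lib.SecondMain.Principal
import Cfsg.Agent.Lib.HallHigman.PSolvable
import Cfsg.Agent.Lib.Constrained.Basic
import Cfsg.Agent.Lib.Char.ClassMult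
import Cfsg.Agent.EqLemmas

set_option autoImplicit false

open scoped ComplexConjugate

namespace Cfsg.Agent.PairsRegular

open Cfsg Subgroup

section pairs

variable {G : Type*} [Group G] [Finite G] {p : ℕ} [hp : Fact p.Prime]

/-- A `p`-solvable group with abelian Sylow `p`-subgroups has a normal Sylow modulo `O_{p'}`. -/
theorem sylow_map_eq_pCore (hX : Cfsg.IsPSolvable p G) (P : Sylow p G)
    (hab : IsMulCommutative ↥(P : Subgroup G)) :
    (P : Subgroup G).map (QuotientGroup.mk' (Cfsg.pPrimeCore p G)) =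
      Cfsg.pCore p (G ⧸ Cfsg.pPrimeCore p G) := by
  set O := Cfsg.pPrimeCore p G with hO
  haveI : O.Normal := Cores.pPrimeCore_normal p G
  set π := QuotientGroup.mk' O with hπ
  have hsurj : Function.Surjective π := QuotientGroup.mk'_surjective O
  let Pb : Sylow p (G ⧸ O) := P.mapSurjective hsurj
  have hPb : (Pb : Subgroup (G ⧸ O)) = (P : Subgroup G).map π := Sylow.coe_mapSurjective hsurj P
  have hle : Cfsg.pCore p (G ⧸ O) ≤ (P : Subgroup G).map π := hPb ▸ Cores.pCore_le_sylow Pb
  refine le_antisymm (fun x hx => ?_) hle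
  refine Constrained.isPConstrained_iff.1 (HallHigman.isPConstrained_of_isPSolvable hX)
    (mem_centralizer_iff.2 fun r hr => ?_)
  have habb : IsMulCommutative ↥((P : Subgroup G).map π) := Subgroup.map_isMulCommutative _ _
  exact congrArg Subtype.val (habb.1.1 ⟨r, hle hr⟩ ⟨x, hx⟩)

omit hp in
/-- A subgroup has abelian Sylow subgroups if the group does. -/
theorem sylow_comm_of_subgroup [Fact p.Prime] (hab : ∀ P : Sylow p G, IsMulCommutative ↥(P : Subgroup G))
    (X : Subgroup G) (Q : Sylow p X) : IsMulCommutative ↥(Q : Subgroup X) := by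
  obtain ⟨P, hP⟩ := (Q.2.map X.subtype).exists_le_sylow
  refine ⟨⟨fun a b => ?_⟩⟩
  have h := congrArg Subtype.val
    ((hab P).1.1 ⟨_, hP (mem_map_of_mem _ a.2)⟩ ⟨_, hP (mem_map_of_mem _ b.2)⟩)
  exact Subtype.ext (Subtype.ext h)

/-- In a `p`-solvable group with abelian Sylow `p`-subgroups generated by `p`-elements `y`, `z`, the
group modulo `O_{p'}` is a `p`-group. -/
theorem quotient_isPGroup (hX : Cfsg.IsPSolvable p G) (P : Sylow p G)
    (hab : IsMulCommutative ↥(P : Subgroup G)) {y z : G} (hgen : closure ({y, z} : Set G) = ⊤)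
    (hy : ∃ k, orderOf y = p ^ k) (hz : ∃ k, orderOf z = p ^ k) :
    IsPGroup p (G ⧸ Cfsg.pPrimeCore p G) := by
  haveI : (Cfsg.pPrimeCore p G).Normal := Cores.pPrimeCore_normal p G
  set π := QuotientGroup.mk' (Cfsg.pPrimeCore p G) with hπ
  set C := Cfsg.pCore p (G ⧸ Cfsg.pPrimeCore p G) with hC
  haveI : C.Normal := Cores.pCore_normal p _
  have hmem : ∀ w : G, (∃ k, orderOf w = p ^ k) → π w ∈ C := by
    intro w hw
    obtain ⟨k, hk⟩ := hw
    have hP : IsPGroup p (zpowers w) := IsPGroup.of_card (n := k) (by rw [Nat.card_zpowers, hk])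
    obtain ⟨Q, hQ⟩ := hP.exists_le_sylow
    obtain ⟨g, rfl⟩ := MulAction.exists_smul_eq G P Q
    have hw' : g⁻¹ * w * g ∈ (P : Subgroup G) := by
      have hm : w ∈ ((g • P : Sylow p G) : Subgroup G) := hQ (mem_zpowers w)
      rw [Sylow.coe_subgroup_smul, Subgroup.mem_smul_pointwise_iff_exists] at hm
      obtain ⟨s, hs, rfl⟩ := hm
      simpa [mul_assoc] using hs
    have h1 : π (g⁻¹ * w * g) ∈ C := hC ▸ sylow_map_eq_pCore hX P hab ▸ mem_map_of_mem _ hw'
    have h2 := (inferInstance : C.Normal).conj_mem _ h1 (π g)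
    simpa [mul_assoc] using h2
  have htop : C = ⊤ := by
    rw [eq_top_iff, ← Subgroup.map_top_of_surjective π (QuotientGroup.mk'_surjective _), ← hgen,
      MonoidHom.map_closure, closure_le]
    rintro _ ⟨w, hw, rfl⟩
    rcases hw with rfl | hw
    · exact hmem w hy
    · rw [Set.mem_singleton_iff] at hw
      exact hw ▸ hmem z hz
  have h := Cores.isPGroup_pCore p (G ⧸ Cfsg.pPrimeCore p G)
  rw [← hC, htop] at h
  exact h.of_equiv Subgroup.topEquiv

/-- With abelian Sylow subgroups, `y z ^ i` and `y z ^ j` are not both `p`-regular when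
`⟨y, z⟩` is `p`-solvable and `i`, `j` differ modulo `p`. -/
theorem not_both_regular (hab : ∀ P : Sylow p G, IsMulCommutative ↥(P : Subgroup G)) {y z : G}
    (hy : orderOf y = p) (hz : orderOf z = p)
    (hsol : Cfsg.IsPSolvable p ↥(closure ({y, z} : Set G))) {i j : ℕ} (hij : i % p ≠ j % p)
    (hi : ¬ p ∣ orderOf (y * z ^ i)) (hj : ¬ p ∣ orderOf (y * z ^ j)) : False := by
  set X := closure ({y, z} : Set G) with hXdef
  let y' : X := ⟨y, subset_closure (Set.mem_insert _ _)⟩
  let z' : X := ⟨z, subset_closure (Set.mem_insert_of_mem _ rfl)⟩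
  have hy' : orderOf y' = p := by rw [← Subgroup.orderOf_coe]; exact hy
  have hz' : orderOf z' = p := by rw [← Subgroup.orderOf_coe]; exact hz
  have hgen : closure ({y', z'} : Set X) = ⊤ := by
    refine Subgroup.map_injective X.subtype_injective ?_
    rw [MonoidHom.map_closure, Set.image_insert_eq, Set.image_singleton, ← MonoidHom.range_eq_map,
      Subgroup.range_subtype]
    rfl
  obtain ⟨Q⟩ : Nonempty (Sylow p X) := inferInstance
  have hq := quotient_isPGroup hsol Q (sylow_comm_of_subgroup hab X Q) hgen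
    ⟨1, by rw [hy', pow_one]⟩ ⟨1, by rw [hz', pow_one]⟩
  haveI : (Cfsg.pPrimeCore p X).Normal := Cores.pPrimeCore_normal p X
  set π := QuotientGroup.mk' (Cfsg.pPrimeCore p X) with hπ
  have hkill : ∀ w : X, ¬ p ∣ orderOf w → π w = 1 := by
    intro w hw
    obtain ⟨k, hk⟩ := (IsPGroup.iff_orderOf.1 hq) (π w)
    have h1 : orderOf (π w) ∣ orderOf w := orderOf_map_dvd π w
    rw [hk] at h1
    rcases Nat.eq_zero_or_pos k with rfl | hk0
    · exact orderOf_eq_one_iff.1 (by rw [hk, pow_zero])
    · exact absurd ((dvd_pow_self p hk0.ne').trans h1) hw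
  have h1 := hkill (y' * z' ^ i) (by rw [← Subgroup.orderOf_coe]; exact hi)
  have h2 := hkill (y' * z' ^ j) (by rw [← Subgroup.orderOf_coe]; exact hj)
  rw [map_mul, map_pow] at h1 h2
  have h3 : π z' ^ i = π z' ^ j := mul_left_cancel (h1.trans h2.symm)
  have hdvd : orderOf (π z') ∣ p := by
    refine dvd_trans (orderOf_map_dvd π z') ?_
    rw [hz']
  rcases (Nat.dvd_prime hp.out).1 hdvd with hone | heq
  · rw [orderOf_eq_one_iff, hπ, QuotientGroup.mk'_apply, QuotientGroup.eq_one_iff] at hone
    have h4 := Subgroup.orderOf_dvd_natCard _ hone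
    rw [hz'] at h4
    exact (hp.out.coprime_iff_not_dvd.1 (Cores.coprime_card_pPrimeCore (G := X) p).symm) h4
  · exact hij (by rw [pow_eq_pow_iff_modEq, heq] at h3; exact h3)

end pairs

section principal

open Blocks SecondMain

variable {G : Type*} [Group G] [Finite G] {p : ℕ} [Fact p.Prime] {M : Ideal AlgInt}

/-- Principal characters of a group with a normal `p`-complement are constant on it. -/
theorem apply_eq_degree_of_complement (hM : IsPModular p M) (hc : HasNormalPComplement p G)
    {η : IrrCharacter G} (hη : η ∈ principalBlock M G) {s : G} (hs : ¬ p ∣ orderOf s) :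
    (η : G → ℂ) s = (η : G → ℂ) 1 := by
  classical
  have h1reg : ¬ p ∣ orderOf (1 : G) := by simpa using hM.1.one_lt.ne'
  let v : Submodule.span ℂ ((fun χ : IrrCharacter G => pRegularPart p (χ : G → ℂ)) '' principalBlock M G) :=
    ⟨pRegularPart p ((BrauerPairs.oneIrr G : IrrCharacter G) : G → ℂ),
      Submodule.subset_span ⟨_, BrauerPairs.oneIrr_mem_principal hM, rfl⟩⟩
  have hone : ∀ g : G, ¬ p ∣ orderOf g →
      pRegularPart p ((BrauerPairs.oneIrr G : IrrCharacter G) : G → ℂ) g = 1 := fun g hg => by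
    rw [pRegularPart_of_regular hg]
    rfl
  have hv : v ≠ 0 := fun h => by
    have h2 := congrFun (congrArg Subtype.val h) 1
    simp only [v, hone 1 h1reg, ZeroMemClass.coe_zero, Pi.zero_apply, one_ne_zero] at h2
  have := Fintype.ofFinite G
  obtain ⟨c, hc'⟩ := (finrank_eq_one_iff_of_nonzero' v hv).mp
    (BrauerPairs.blockRank_principal_of_complement hM hc)
    ⟨pRegularPart p (η : G → ℂ), Submodule.subset_span ⟨η, hη, rfl⟩⟩
  have h2 : ∀ g : G, ¬ p ∣ orderOf g → (η : G → ℂ) g = c := fun g hg => by
    have h3 := congrFun (congrArg Subtype.val hc') g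
    simp only [v, Submodule.coe_smul, Pi.smul_apply, smul_eq_mul, hone g hg,
      pRegularPart_of_regular hg, mul_one] at h3
    exact h3.symm
  rw [h2 s hs, h2 1 h1reg]

open scoped Classical in
/-- Characters outside the principal block sum to zero over a section with `p`-nilpotent
centraliser. -/
theorem sum_regular_eq_zero (hM : IsPModular p M) {x : G} (hx : ∃ k, orderOf x = p ^ k)
    {H : Subgroup G} [Fintype H] (hH : ∀ g, g ∈ H ↔ Commute x g) (hc : HasNormalPComplement p H)
    {χ : IrrCharacter G} (hχ : χ ∉ principalBlock M G) :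
    ∑ s ∈ Finset.univ.filter (fun s : H => ¬ p ∣ orderOf s), (χ : G → ℂ) (x * (s : G)) = 0 := by
  have := Fintype.ofFinite (IrrCharacter H)
  have h1reg : ¬ p ∣ orderOf (1 : H) := by simpa using hM.1.one_lt.ne'
  have hb0 : IsPBlock M (principalBlock M H) := BrauerPairs.isPBlock_principal
  have h := sum_induced_shift_of_notMem (B := principalBlock M G) hM hx hH hχ h1reg
  rw [inducedSet_principal hM hx hH, finsum_mem_singleton, colSum_eq_sum_classInner] at h
  set A : ℂ := ∑ᶠ η ∈ principalBlock M H, (η : H → ℂ) 1 * conj ((η : H → ℂ) 1) with hA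
  have hcol : ∀ m : H, colSum (principalBlock M H) 1 m = if ¬ p ∣ orderOf m then A else 0 := by
    intro m
    by_cases hm : p ∣ orderOf m
    · rw [if_neg (not_not.mpr hm), colSum, weak_orth hM (blockInd_mem_intRing hM hb0) h1reg hm]
    · rw [if_pos hm, colSum]
      exact finsum_mem_congr rfl fun η hη => by rw [apply_eq_degree_of_complement hM hc hη hm]
  simp only [hcol, mul_ite, mul_zero, ← Finset.sum_filter, ← Finset.sum_mul] at h
  have hA0 : A ≠ 0 := by
    intro h0
    have hre : ∑ η ∈ (principalBlock M H).toFinset, Complex.normSq ((η : H → ℂ) 1) = 0 := by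
      have h2 : ((∑ η ∈ (principalBlock M H).toFinset, Complex.normSq ((η : H → ℂ) 1) : ℝ) : ℂ) = 0 := by
        rw [Complex.ofReal_sum, ← h0, hA, finsum_mem_eq_toFinset_sum]
        exact Finset.sum_congr rfl fun η _ => by rw [Complex.mul_conj]
      exact_mod_cast h2
    have h3 := (Finset.sum_eq_zero_iff_of_nonneg fun η _ => Complex.normSq_nonneg _).1 hre
      (BrauerPairs.oneIrr H) (Set.mem_toFinset.mpr (BrauerPairs.oneIrr_mem_principal hM))
    simp [BrauerPairs.oneIrr] at h3
  rcases mul_eq_zero.1 h with h' | h'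
  · exact absurd h' (inv_ne_zero (Nat.cast_ne_zero.2 Nat.card_pos.ne'))
  · exact (mul_eq_zero.1 h').resolve_right hA0

open scoped Classical in
/-- The squares at `x` of the principal characters sum to the order of a Sylow `p`-subgroup of `G`
when the centraliser of `x` has a normal `p`-complement and contains a Sylow subgroup of `G`. -/
theorem regular_card_mul_sylow {H : Subgroup G} [Fintype H] (hc : HasNormalPComplement p H)
    (P : Sylow p G) (hP : (P : Subgroup G) ≤ H) :
    (Finset.univ.filter fun s : H => ¬ p ∣ orderOf s).card * Nat.card ↥(P : Subgroup G) = Nat.card H := by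
  have hcop := Transfer.hasNormalPComplement_iff_coprime.1 hc
  obtain ⟨k, hk⟩ := Transfer.exists_index_pResidual (G := H) (p := p)
  have hR : (Finset.univ.filter fun s : H => ¬ p ∣ orderOf s).card = Nat.card (pResidual p H) := by
    rw [← Fintype.card_subtype, ← Nat.card_eq_fintype_card]
    refine Nat.card_congr (Equiv.subtypeEquivRight fun s => ?_)
    rw [Transfer.mem_pResidual_iff hc]
    exact ((Fact.out : p.Prime).coprime_iff_not_dvd.symm.trans Nat.coprime_comm)
  have hH : Nat.card (pResidual p H) * (pResidual p H).index = Nat.card H :=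
    Subgroup.card_mul_index _
  rw [hk] at hH
  suffices h : Nat.card ↥(P : Subgroup G) = p ^ k by rw [hR, h, hH]
  refine Nat.dvd_antisymm ?_ ?_
  · obtain ⟨e, he⟩ := IsPGroup.iff_card.1 P.2
    have h1 : Nat.card ↥(P : Subgroup G) ∣ Nat.card H := Subgroup.card_dvd_of_le hP
    rw [← hH] at h1
    refine Nat.Coprime.dvd_of_dvd_mul_left ?_ h1
    rw [he]
    exact (Nat.coprime_comm.1 hcop).pow_left e
  · have h1 : p ^ k ∣ Nat.card G :=
      dvd_trans (Dvd.intro_left _ hH) (Subgroup.card_subgroup_dvd_card H)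
    rw [← Subgroup.card_mul_index (P : Subgroup G)] at h1
    refine Nat.Coprime.dvd_of_dvd_mul_right ?_ h1
    exact ((Fact.out : p.Prime).coprime_iff_not_dvd.2 P.not_dvd_index).pow_left k

end principal

end Cfsg.Agent.PairsRegular
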