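/-
A simple group with elementary abelian Sylow `p`-subgroup, one class of elements of order `p`,
`p`-nilpotent centralisers of these and `p`-solvable subgroups generated by any two of them has
`p = 2` (helper3).

The proportion of pairs of elements of order `p` with `p`-singular product is at least
`(p - 2) / (p - 1)`; the principal block bounds it from above by about `|P|^(-1/2)`.
-/
import Cfsg.Agent.Lib.PairsRegular.Main
import Cfsg.Agent.Lib.Char.Linear
import Cfsg.Agent.Lib.Blocks.Induced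
import Cfsg.Agent.EqLemmas

set_option autoImplicit false

open scoped ComplexConjugate

namespace Cfsg.Agent.PairsRegular

open Cfsg Subgroup Blocks SecondMain

variable {G : Type*} [Group G] [Finite G] {p : ℕ} [hp : Fact p.Prime]

open scoped Classical in
set_option maxHeartbeats 1000000 in
/-- At least the proportion `(p - 2) / (p - 1)` of the pairs of `p`-elements of one class have
`p`-singular product. -/
theorem pairs_bound [Fintype G] (hab : ∀ P : Sylow p G, IsMulCommutative ↥(P : Subgroup G)) {x : G}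
    (hclass : ∀ y : G, IsConj x y ↔ orderOf y = p)
    (hsol : ∀ y z : G, orderOf y = p → orderOf z = p →
      Cfsg.IsPSolvable p ↥(closure ({y, z} : Set G))) :
    (p - 2) * ((Finset.univ.filter fun g : G => IsConj x g).card ^ 2) ≤ (p - 1) *
      (((Finset.univ.filter fun g : G => IsConj x g) ×ˢ (Finset.univ.filter fun g : G => IsConj x g)).filter
        fun q => p ∣ orderOf (q.1 * q.2)).card := by
  set K := Finset.univ.filter fun g : G => IsConj x g with hK
  have memK : ∀ g, g ∈ K ↔ orderOf g = p := fun g => by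
    rw [hK, Finset.mem_filter, hclass]
    simp
  set A := (K ×ˢ K).filter fun q => ¬ p ∣ orderOf (q.1 * q.2) with hA
  let I := (Finset.Ico 1 p)
  have hpI : I.card = p - 1 := Nat.card_Ico 1 p
  have hcop : ∀ i ∈ I, p.Coprime i := fun i hi => by
    rw [hp.out.coprime_iff_not_dvd]
    intro h
    obtain ⟨h1, h2⟩ := Finset.mem_Ico.1 hi
    exact absurd (Nat.le_of_dvd (by omega) h) (by omega)
  have hpow : ∀ i ∈ I, ∀ z ∈ K, z ^ i ∈ K := fun i hi z hz => by
    rw [memK, Nat.Coprime.orderOf_pow, (memK z).1 hz]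
    rw [(memK z).1 hz]
    exact hcop i hi
  -- for each exponent the twisted regular pairs are as many as the regular pairs
  have hsize : ∀ i ∈ I, ((K ×ˢ K).filter fun q => ¬ p ∣ orderOf (q.1 * q.2 ^ i)).card = A.card := by
    intro i hi
    obtain ⟨j, -, hij⟩ := Nat.exists_mul_mod_eq_one_of_coprime (hcop i hi).symm hp.out.one_lt
    have hjI : j % p ∈ I := by
      refine Finset.mem_Ico.2 ⟨Nat.pos_of_ne_zero fun h0 => ?_, Nat.mod_lt _ hp.out.pos⟩
      rw [Nat.mul_mod, h0, mul_zero, Nat.zero_mod] at hij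
      exact zero_ne_one hij
    have hinv : ∀ z ∈ K, (z ^ i) ^ (j % p) = z ∧ (z ^ (j % p)) ^ i = z := fun z hz => by
      have e : z ^ (i * (j % p)) = z := by
        conv_rhs => rw [← pow_one z]
        rw [pow_eq_pow_iff_modEq, (memK z).1 hz]
        unfold Nat.ModEq
        rw [Nat.mul_mod, Nat.mod_mod, ← Nat.mul_mod, hij, Nat.mod_eq_of_lt hp.out.one_lt]
      exact ⟨by rw [← pow_mul, e], by rw [← pow_mul, mul_comm, e]⟩
    refine Finset.card_bij' (fun q _ => (q.1, q.2 ^ i)) (fun q _ => (q.1, q.2 ^ (j % p)))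
      (fun q hq => ?_) (fun q hq => ?_) (fun q hq => ?_) (fun q hq => ?_)
    · simp only [hA, Finset.mem_filter, Finset.mem_product] at hq ⊢
      exact ⟨⟨hq.1.1, hpow i hi _ hq.1.2⟩, hq.2⟩
    · simp only [hA, Finset.mem_filter, Finset.mem_product] at hq ⊢
      refine ⟨⟨hq.1.1, hpow _ hjI _ hq.1.2⟩, ?_⟩
      rw [(hinv _ hq.1.2).2]
      exact hq.2
    · simp only [hA, Finset.mem_filter, Finset.mem_product] at hq
      exact Prod.ext rfl (hinv _ hq.1.2).1
    · simp only [hA, Finset.mem_filter, Finset.mem_product] at hq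
      exact Prod.ext rfl (hinv _ hq.1.2).2
  have hdisj : Set.PairwiseDisjoint (I : Set ℕ)
      (fun i => (K ×ˢ K).filter fun q => ¬ p ∣ orderOf (q.1 * q.2 ^ i)) := by
    intro i hi j hj hne
    refine Finset.disjoint_left.2 fun q hqi hqj => ?_
    simp only [Finset.mem_filter, Finset.mem_product] at hqi hqj
    refine not_both_regular hab ((memK _).1 hqi.1.1) ((memK _).1 hqi.1.2)
      (hsol _ _ ((memK _).1 hqi.1.1) ((memK _).1 hqi.1.2)) ?_ hqi.2 hqj.2
    rw [Nat.mod_eq_of_lt (Finset.mem_Ico.1 hi).2, Nat.mod_eq_of_lt (Finset.mem_Ico.1 hj).2]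
    exact hne
  have hsub : I.biUnion (fun i => (K ×ˢ K).filter fun q => ¬ p ∣ orderOf (q.1 * q.2 ^ i)) ⊆ K ×ˢ K := by
    intro q hq
    rw [Finset.mem_biUnion] at hq
    obtain ⟨i, -, hi⟩ := hq
    exact Finset.mem_of_mem_filter q hi
  have hle := Finset.card_le_card hsub
  rw [Finset.card_biUnion hdisj, Finset.sum_congr rfl hsize, Finset.sum_const, smul_eq_mul, hpI,
    Finset.card_product, ← sq] at hle
  have hsplit := Finset.card_filter_add_card_filter_not (s := K ×ˢ K)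
    (fun q : G × G => p ∣ orderOf (q.1 * q.2))
  rw [← hA, Finset.card_product, ← sq] at hsplit
  obtain ⟨r, hr⟩ : ∃ r, p = r + 2 := ⟨p - 2, by have := hp.out.two_le; omega⟩
  simp only [hr, show r + 2 - 2 = r by omega, show r + 2 - 1 = r + 1 by omega] at hle hsplit ⊢
  nlinarith [hle, hsplit]

/-- In a simple group an element at which a nonprincipal irreducible character takes its degree is
trivial. -/
theorem eq_one_of_apply_eq_degree [IsSimpleGroup G] {χ : IrrCharacter G}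
    (hne : χ ≠ BrauerPairs.oneIrr G) {x : G} (h : (χ : G → ℂ) x = (χ : G → ℂ) 1) : x = 1 := by
  have := Fintype.ofFinite G
  obtain ⟨n, ρ, hi, hρ⟩ := χ.2
  haveI := hi
  let K : Subgroup G := MonoidHom.ker (ρ : G →* Module.End ℂ (Fin n → ℂ))
  have hxK : x ∈ K := by
    rw [MonoidHom.mem_ker]
    refine (Char.character_eq_finrank_iff ρ x).1 ?_
    rw [← Representation.char_one ρ, hρ]
    exact h
  rcases (inferInstance : K.Normal).eq_bot_or_eq_top with hb | ht
  · rw [hb] at hxK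
    exact hxK
  · refine absurd (Subtype.ext (funext fun g => ?_)) hne
    have hconst : ∀ g : G, (χ : G → ℂ) g = (χ : G → ℂ) 1 := fun g => by
      rw [← hρ, Representation.char_one]
      exact (Char.character_eq_finrank_iff ρ g).2 (MonoidHom.mem_ker.1 (by rw [show MonoidHom.ker (ρ : G →* Module.End ℂ (Fin n → ℂ)) = ⊤ from ht]; trivial))
    by_contra hg
    have hne' : (χ : G → ℂ) ≠ ((BrauerPairs.oneIrr G : IrrCharacter G) : G → ℂ) := fun h' =>
      hg (congrFun h' g)
    have h0 := Char.classInner_irr_of_ne χ.2 (BrauerPairs.oneIrr G).2 hne'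
    have h1 := Char.card_mul_classInner (χ : G → ℂ) ((BrauerPairs.oneIrr G : IrrCharacter G) : G → ℂ)
    rw [h0, mul_zero] at h1
    rw [Finset.sum_congr rfl (fun g _ => by rw [hconst g])] at h1
    simp [BrauerPairs.oneIrr] at h1
    exact Char.IsIrrCharacter.apply_one_ne_zero χ.2 h1

/-- Degrees and values of nonprincipal characters at `x`, all nontrivial elements of the abelian
subgroup `P` being conjugate to `x`. -/
theorem degree_bound [IsSimpleGroup G] (P : Subgroup G) [IsMulCommutative ↥P] (hP1 : P ≠ ⊥) {x : G}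
    (hconj : ∀ g ∈ P, g ≠ 1 → IsConj x g) (hx1 : x ≠ 1) {χ : IrrCharacter G}
    (hne : χ ≠ BrauerPairs.oneIrr G) :
    ∃ v m d : ℤ, (χ : G → ℂ) x = (v : ℂ) ∧ (χ : G → ℂ) 1 = (d : ℂ) ∧
      d = v + Nat.card ↥P * m ∧ 1 ≤ m ∧ 0 ≤ v + m := by
  classical
  have := Fintype.ofFinite G
  have := Fintype.ofFinite ↥P
  have hab : ∀ a b : ↥P, a * b = b * a := fun a b => mul_comm' a b
  have hcardP : 1 < Nat.card ↥P := (Subgroup.one_lt_card_iff_ne_bot P).2 hP1
  haveI : Nontrivial (IrrCharacter ↥P) := by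
    rw [← Finite.one_lt_card_iff_nontrivial, Char.card_irr_eq_card_conjClasses,
      Char.card_conjClasses_of_comm hab]
    exact hcardP
  obtain ⟨η, hη⟩ := exists_ne (BrauerPairs.oneIrr ↥P)
  have hη1 : (η : ↥P → ℂ) 1 = 1 := Char.apply_one_eq_one_of_comm hab η
  have hsum : ∑ g : ↥P, (η : ↥P → ℂ) g = 0 := by
    have h := Char.card_mul_classInner (η : ↥P → ℂ) ((BrauerPairs.oneIrr ↥P : IrrCharacter ↥P) : ↥P → ℂ)
    rw [Char.classInner_irr_of_ne η.2 (BrauerPairs.oneIrr ↥P).2 (fun h' => hη (Subtype.ext h')),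
      mul_zero] at h
    rw [h]
    exact Finset.sum_congr rfl fun g _ => by simp [BrauerPairs.oneIrr]
  have hχP := Char.IsCharacter.restrict (Char.IsIrrCharacter.isCharacter χ.2) P
  have hval : ∀ g : ↥P, g ≠ 1 → (χ : G → ℂ) (g : G) = (χ : G → ℂ) x := by
    intro g hg
    obtain ⟨c, hc⟩ := isConj_iff.1 (hconj g g.2 fun h => hg (Subtype.ext h))
    rw [← hc, Char.IsIrrCharacter.isClassFunction χ.2]
  obtain ⟨n, hn⟩ := Char.IsCharacter.exists_degree (Char.IsIrrCharacter.isCharacter χ.2)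
  have hkey : ∀ θ : ↥P → ℂ, ∑ g : ↥P, (χ : G → ℂ) (g : G) * conj (θ g)
      = ((χ : G → ℂ) 1 - (χ : G → ℂ) x) * conj (θ 1) + (χ : G → ℂ) x * conj (∑ g : ↥P, θ g) := by
    intro θ
    rw [map_sum, Finset.mul_sum]
    have e : ∀ g : ↥P, (χ : G → ℂ) (g : G) * conj (θ g) =
        (if g = 1 then ((χ : G → ℂ) 1 - (χ : G → ℂ) x) * conj (θ 1) else 0)
          + (χ : G → ℂ) x * conj (θ g) := by
      intro g
      by_cases hg : g = 1
      · subst hg
        rw [if_pos rfl, Subgroup.coe_one]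
        ring
      · rw [if_neg hg, hval g hg, zero_add]
    rw [Finset.sum_congr rfl fun g _ => e g, Finset.sum_add_distrib,
      Finset.sum_ite_eq' Finset.univ (1 : ↥P), if_pos (Finset.mem_univ _)]
  obtain ⟨a, ha⟩ := Char.IsCharacter.classInner_nat hχP (Char.IsIrrCharacter.isCharacter η.2)
  obtain ⟨b, hb⟩ := Char.IsCharacter.classInner_nat hχP
    (Char.IsIrrCharacter.isCharacter (BrauerPairs.oneIrr ↥P).2)
  have h1 := Char.card_mul_classInner (fun g : ↥P => (χ : G → ℂ) (g : G)) (η : ↥P → ℂ)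
  rw [ha, hkey, hsum, map_zero, mul_zero, add_zero, hη1, map_one, mul_one] at h1
  have h2 := Char.card_mul_classInner (fun g : ↥P => (χ : G → ℂ) (g : G))
    ((BrauerPairs.oneIrr ↥P : IrrCharacter ↥P) : ↥P → ℂ)
  rw [hb, hkey] at h2
  simp only [BrauerPairs.oneIrr, map_one, mul_one, Finset.sum_const, Finset.card_univ, nsmul_eq_mul,
    map_natCast, ← Nat.card_eq_fintype_card] at h2
  have hv : (χ : G → ℂ) x = (((n : ℤ) - Nat.card ↥P * a : ℤ) : ℂ) := by
    rw [hn] at h1
    push_cast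
    linear_combination h1
  refine ⟨(n : ℤ) - Nat.card ↥P * a, a, n, hv, by rw [hn]; norm_cast, by ring, ?_, ?_⟩
  · rcases Nat.eq_zero_or_pos a with rfl | h
    · exact absurd (eq_one_of_apply_eq_degree hne (by rw [hv, hn]; simp)) hx1
    · exact_mod_cast h
  · have h3 : (Nat.card ↥P : ℂ) * (((n : ℤ) - Nat.card ↥P * a + a : ℤ) : ℂ) = (Nat.card ↥P : ℂ) * (b : ℂ) := by
      rw [h2, hv, hn]
      push_cast
      ring
    have h4 : ((((n : ℤ) - Nat.card ↥P * a + a : ℤ)) : ℂ) = ((b : ℤ) : ℂ) := by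
      rw [Int.cast_natCast]
      exact mul_left_cancel₀ (Nat.cast_ne_zero.2 Nat.card_pos.ne') h3
    rw [Int.cast_inj.1 h4]
    positivity

/-- The real inequalities. -/
theorem arith {p N : ℝ} (h5 : 5 ≤ N) (hp3 : 3 ≤ p) (hcase : p = 3 ∧ 9 ≤ N ∨ 5 ≤ p) :
    1 + Real.sqrt (N - 1) < N * (p - 2) / (p - 1) := by
  have hr := Real.sq_sqrt (show 0 ≤ N - 1 by linarith)
  have hr0 := Real.sqrt_nonneg (N - 1)
  rw [lt_div_iff₀ (by linarith)]
  rcases hcase with ⟨rfl, h9⟩ | hp5
  · nlinarith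
  · have hr2 : 2 ≤ Real.sqrt (N - 1) := by nlinarith
    nlinarith [mul_nonneg (mul_nonneg (sub_nonneg.2 hp5) hr0) (sub_nonneg.2 hr2)]

open scoped Classical in
set_option maxHeartbeats 2000000 in
theorem eq_two_of_pairs [IsSimpleGroup G] (hG : ¬ IsMulCommutative G) (P : Sylow p G)
    (hP1 : (P : Subgroup G) ≠ ⊥) (hPe : Cfsg.IsElementaryAbelian p (P : Subgroup G))
    (hconj : ∀ x ∈ (P : Subgroup G), ∀ y ∈ (P : Subgroup G), x ≠ 1 → y ≠ 1 → ∃ g : G, g * x * g⁻¹ = y)
    (hb : ∀ x ∈ (P : Subgroup G), orderOf x = p →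
      Cfsg.HasNormalPComplement p ↥(Subgroup.centralizer ({x} : Set G)))
    (hc : ∀ x y : G, orderOf x = p → orderOf y = p →
      Cfsg.IsPSolvable p ↥(Subgroup.closure ({x, y} : Set G))) :
    p = 2 := by
  by_contra hp2
  have hp3 : 3 ≤ p := by have := hp.out.two_le; omega
  have := Fintype.ofFinite G
  have := Fintype.ofFinite (IrrCharacter G)
  obtain ⟨M, hM⟩ := Blocks.exists_isPModular hp.out
  haveI := hPe.1
  obtain ⟨x, hxP, hx1⟩ := (Subgroup.bot_or_exists_ne_one (P : Subgroup G)).resolve_left hP1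
  have hxp : orderOf x = p := orderOf_eq_prime (hPe.2 x hxP) hx1
  have hxk : ∃ k, orderOf x = p ^ k := ⟨1, by rw [hxp, pow_one]⟩
  -- every nontrivial `p`-element is conjugate to `x`
  have hpel : ∀ g : G, (∃ k, orderOf g = p ^ k) → g ≠ 1 → IsConj x g := by
    intro g hg hg1
    obtain ⟨k, hk⟩ := hg
    have hP : IsPGroup p (zpowers g) := IsPGroup.of_card (n := k) (by rw [Nat.card_zpowers, hk])
    obtain ⟨Q, hQ⟩ := hP.exists_le_sylow
    obtain ⟨c, rfl⟩ := MulAction.exists_smul_eq G P Q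
    have hm : g ∈ ((c • P : Sylow p G) : Subgroup G) := hQ (mem_zpowers g)
    rw [Sylow.coe_subgroup_smul, Subgroup.mem_smul_pointwise_iff_exists] at hm
    obtain ⟨s, hs, rfl⟩ := hm
    have hs1 : s ≠ 1 := fun h => hg1 (by rw [h]; simp)
    obtain ⟨d, hd⟩ := hconj x hxP s hs hx1 hs1
    refine (isConj_iff.2 ⟨d, hd⟩).trans (isConj_iff.2 ⟨c, ?_⟩)
    simp [MulDistribMulAction.toMonoidEnd]
  have hclass : ∀ y : G, IsConj x y ↔ orderOf y = p := fun y =>
    ⟨fun h => by
      obtain ⟨c, rfl⟩ := isConj_iff.1 h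
      rw [orderOf_conj, hxp],
     fun h => hpel y ⟨1, by rw [h, pow_one]⟩ fun h1 => hp.out.one_lt.ne (by rw [← h, h1, orderOf_one])⟩
  have habAll : ∀ Q : Sylow p G, IsMulCommutative ↥(Q : Subgroup G) := fun Q =>
    ⟨⟨fun a b => (P.equiv Q).symm.injective (by rw [map_mul, map_mul]; exact mul_comm' _ _)⟩⟩
  set C := Subgroup.centralizer ({x} : Set G) with hC
  have hH : ∀ g, g ∈ C ↔ Commute x g := fun _ => commute_iff_mem_centralizer_singleton
  have hcC : HasNormalPComplement p C := hb x hxP hxp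
  have hPC : (P : Subgroup G) ≤ C := fun g hg => (hH g).2
    (congrArg Subtype.val (mul_comm' (⟨x, hxP⟩ : ↥(P : Subgroup G)) ⟨g, hg⟩))
  set N := Nat.card ↥(P : Subgroup G) with hN
  set R := (Finset.univ.filter fun s : C => ¬ p ∣ orderOf s) with hR
  have hRN : R.card * N = Nat.card C := regular_card_mul_sylow hcC P hPC
  have hRpos : 0 < R.card := by
    refine Finset.card_pos.2 ⟨1, Finset.mem_filter.2 ⟨Finset.mem_univ _, ?_⟩⟩
    simpa using hp.out.one_lt.ne'
  set K := Finset.univ.filter fun g : G => IsConj x g with hK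
  set S := ((K ×ˢ K).filter fun q => p ∣ orderOf (q.1 * q.2)) with hS
  have hlow : (p - 2) * K.card ^ 2 ≤ (p - 1) * S.card := pairs_bound habAll hclass hc
  have hKpos : 0 < K.card := Finset.card_pos.2 ⟨x, Finset.mem_filter.2 ⟨Finset.mem_univ _, IsConj.refl x⟩⟩
  -- the sum over sections
  let F : G → ℂ := fun g => (Nat.card {q : G × G // IsConj x q.1 ∧ IsConj x q.2 ∧ q.1 * q.2 = g} : ℂ)
  have hKc : (Nat.card {y : G // IsConj x y} : ℂ) = (K.card : ℂ) := by
    rw [Nat.card_eq_fintype_card, Fintype.card_subtype]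
  have hF : ∀ g, F g = (K.card : ℂ) * (K.card : ℂ) / (Nat.card G : ℂ) * ∑ χ : IrrCharacter G,
      (χ : G → ℂ) x * (χ : G → ℂ) x * conj ((χ : G → ℂ) g) / (χ : G → ℂ) 1 := fun g => by
    simp only [F]
    rw [Char.class_mult_formula x x g, hKc]
  let f : G → ℂ := fun g => if p ∣ orderOf g then F g else 0
  have hfcl : IsClassFunction G f := fun g h => by
    have e : ∀ χ : IrrCharacter G, (χ : G → ℂ) (h * g * h⁻¹) = (χ : G → ℂ) g := fun χ =>
      Char.IsIrrCharacter.isClassFunction χ.2 g h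
    simp only [f, hF, orderOf_conj, e]
  have hsum1 : ∑ g, f g = (S.card : ℂ) := by
    have e : ∀ g, f g = ((S.filter fun q => q.1 * q.2 = g).card : ℂ) := by
      intro g
      simp only [f, F]
      by_cases hg : p ∣ orderOf g
      · rw [if_pos hg, Nat.card_eq_fintype_card, Fintype.card_subtype]
        congr 2
        ext q
        simp only [hS, hK, Finset.mem_filter, Finset.mem_univ, true_and, Finset.mem_product]
        constructor
        · rintro ⟨h1, h2, h3⟩
          exact ⟨⟨⟨h1, h2⟩, h3 ▸ hg⟩, h3⟩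
        · rintro ⟨⟨⟨h1, h2⟩, -⟩, h3⟩
          exact ⟨h1, h2, h3⟩
      · rw [if_neg hg, eq_comm, Nat.cast_eq_zero, Finset.card_eq_zero, Finset.filter_eq_empty_iff]
        intro q hq h
        exact hg (h ▸ (Finset.mem_filter.1 hq).2)
    rw [Finset.sum_congr rfl fun g _ => e g, ← Nat.cast_sum]
    congr 1
    exact (Finset.card_eq_sum_card_fiberwise fun q _ => Finset.mem_univ _).symm
  have hrep : ∀ g : G, (∃ k : ℕ, orderOf g = p ^ k) →
      ∃! y, y ∈ ({1, x} : Finset G) ∧ IsConj g y := by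
    intro g hg
    by_cases hg1 : g = 1
    · subst hg1
      exact ⟨1, ⟨Finset.mem_insert_self _ _, IsConj.refl _⟩, fun y hy => (isConj_one_right.1 hy.2)⟩
    · refine ⟨x, ⟨Finset.mem_insert_of_mem (Finset.mem_singleton_self x), (hpel g hg hg1).symm⟩,
        fun y hy => ?_⟩
      rcases Finset.mem_insert.1 hy.1 with h | h
      · exact absurd (isConj_one_left.1 (h ▸ hy.2)) hg1
      · exact Finset.mem_singleton.1 h
  have hsec := SecondMain.sum_eq_sum_sections (p := p) hfcl ({1, x} : Finset G)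
    (fun y hy => by
      rcases Finset.mem_insert.1 hy with rfl | h
      · exact ⟨0, by rw [orderOf_one, pow_zero]⟩
      · rw [Finset.mem_singleton.1 h]; exact hxk) hrep
  rw [hsum1, Finset.sum_pair (Ne.symm hx1)] at hsec
  rw [Finset.sum_eq_zero (s := (Finset.univ : Finset (Subgroup.centralizer ({(1 : G)} : Set G))))
    (fun s _ => ?_), mul_zero, zero_add] at hsec
  swap
  · by_cases hs : p ∣ orderOf s
    · rw [if_neg (not_not.2 hs)]
    · rw [if_pos hs]
      exact if_neg (by rwa [one_mul, Subgroup.orderOf_coe])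
  have hsing : ∀ s : C, ¬ p ∣ orderOf s → p ∣ orderOf (x * (s : G)) := by
    intro s hs
    rw [((hH s).1 s.2).orderOf_mul_eq_mul_orderOf_of_coprime, hxp]
    · exact dvd_mul_right _ _
    · rw [hxp, Subgroup.orderOf_coe]
      exact hp.out.coprime_iff_not_dvd.2 hs
  set B := (principalBlock M G).toFinset with hB
  have hsecsum : ∀ χ : IrrCharacter G, ∑ s ∈ R, conj ((χ : G → ℂ) (x * (s : G)))
      = if χ ∈ B then (R.card : ℂ) * conj ((χ : G → ℂ) x) else 0 := by
    intro χ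
    by_cases hχ : χ ∈ principalBlock M G
    · rw [if_pos (Set.mem_toFinset.2 hχ), Finset.sum_congr rfl fun s hs => by
        rw [apply_shift_principal hM hxk hH hcC hχ (Finset.mem_filter.1 hs).2],
        Finset.sum_const, nsmul_eq_mul]
    · rw [if_neg (fun h => hχ (Set.mem_toFinset.1 h)), ← map_sum,
        sum_regular_eq_zero hM hxk hH hcC hχ, map_zero]
  have hinner : ∑ s : C, (if ¬ p ∣ orderOf s then f (x * (s : G)) else 0)
      = (K.card : ℂ) * (K.card : ℂ) / (Nat.card G : ℂ) * ((R.card : ℂ) * ∑ χ ∈ B,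
          (χ : G → ℂ) x * (χ : G → ℂ) x * conj ((χ : G → ℂ) x) / (χ : G → ℂ) 1) := by
    rw [← Finset.sum_filter, ← hR]
    have e : ∀ s ∈ R, f (x * (s : G)) = (K.card : ℂ) * (K.card : ℂ) / (Nat.card G : ℂ) *
        ∑ χ : IrrCharacter G,
          (χ : G → ℂ) x * (χ : G → ℂ) x * conj ((χ : G → ℂ) (x * (s : G))) / (χ : G → ℂ) 1 :=
      fun s hs => by simp only [f]; rw [if_pos (hsing s (Finset.mem_filter.1 hs).2), hF]
    rw [Finset.sum_congr rfl e, ← Finset.mul_sum, Finset.sum_comm]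
    congr 1
    rw [Finset.sum_congr rfl fun χ _ => by
      rw [← Finset.sum_div, ← Finset.mul_sum, hsecsum χ], Finset.mul_sum]
    rw [← Finset.sum_subset (Finset.subset_univ B) fun χ _ hχ => by rw [if_neg hχ, mul_zero, zero_div]]
    exact Finset.sum_congr rfl fun χ hχ => by rw [if_pos hχ]; ring
  rw [hinner] at hsec
  have hNR : (R.card : ℂ) * (N : ℂ) = (Nat.card C : ℂ) := by exact_mod_cast congrArg Nat.cast hRN
  have hR0 : (R.card : ℂ) ≠ 0 := Nat.cast_ne_zero.2 hRpos.ne'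
  have hN0 : (N : ℂ) ≠ 0 := Nat.cast_ne_zero.2 Nat.card_pos.ne'
  have hG0 : (Nat.card G : ℂ) ≠ 0 := Nat.cast_ne_zero.2 Nat.card_pos.ne'
  rw [← hC, ← hNR] at hsec
  have hS3 : (N : ℂ) * (S.card : ℂ) = (K.card : ℂ) ^ 2 * ∑ χ ∈ B,
      (χ : G → ℂ) x * (χ : G → ℂ) x * conj ((χ : G → ℂ) x) / (χ : G → ℂ) 1 := by
    rw [hsec]
    field_simp
  have hsq : (N : ℂ) = ∑ χ ∈ B, (χ : G → ℂ) x * conj ((χ : G → ℂ) x) := by
    have h := sum_sq_principal_of_complement hM hxk hH hcC
    rw [← hR, ← hNR, finsum_mem_eq_toFinset_sum] at h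
    exact (mul_left_cancel₀ hR0 h).symm
  -- integral values
  have hone : BrauerPairs.oneIrr G ∈ B := Set.mem_toFinset.2 (BrauerPairs.oneIrr_mem_principal hM)
  have hdeg : ∀ χ ∈ B.erase (BrauerPairs.oneIrr G), ∃ v m d : ℤ, (χ : G → ℂ) x = (v : ℂ) ∧
      (χ : G → ℂ) 1 = (d : ℂ) ∧ d = v + (N : ℤ) * m ∧ 1 ≤ m ∧ 0 ≤ v + m := fun χ hχ =>
    degree_bound (P : Subgroup G) hP1 (fun g hg hg1 => by
      obtain ⟨c, hc⟩ := hconj x hxP g hg hx1 hg1
      exact isConj_iff.2 ⟨c, hc⟩) hx1 (Finset.mem_erase.1 hχ).1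
  choose! v m d hv hd1 hd hm hvm using hdeg
  set B' := B.erase (BrauerPairs.oneIrr G) with hB'
  have hsplitsum : ∀ g : IrrCharacter G → ℂ, ∑ χ ∈ B, g χ = g (BrauerPairs.oneIrr G) + ∑ χ ∈ B', g χ :=
    fun g => (Finset.add_sum_erase B g hone).symm
  have hN2 : 2 ≤ N := (Subgroup.one_lt_card_iff_ne_bot _).2 hP1
  have hsqR : (N : ℝ) - 1 = ∑ χ ∈ B', (v χ : ℝ) ^ 2 := by
    have h : (((N : ℝ) - 1 : ℝ) : ℂ) = ((∑ χ ∈ B', (v χ : ℝ) ^ 2 : ℝ) : ℂ) := by
      rw [Complex.ofReal_sub, Complex.ofReal_natCast, Complex.ofReal_one, hsq, hsplitsum]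
      simp only [BrauerPairs.oneIrr, map_one, mul_one, add_sub_cancel_left, Complex.ofReal_sum]
      exact Finset.sum_congr rfl fun χ hχ => by rw [hv χ hχ, map_intCast]; push_cast; ring
    exact_mod_cast h
  have hS3R : (N : ℝ) * (S.card : ℝ) = (K.card : ℝ) ^ 2 * (1 + ∑ χ ∈ B', (v χ : ℝ) ^ 3 / (d χ : ℝ)) := by
    have h : (((N : ℝ) * (S.card : ℝ) : ℝ) : ℂ) =
        (((K.card : ℝ) ^ 2 * (1 + ∑ χ ∈ B', (v χ : ℝ) ^ 3 / (d χ : ℝ)) : ℝ) : ℂ) := by
      push_cast
      rw [hS3, hsplitsum]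
      simp only [BrauerPairs.oneIrr, map_one, mul_one, div_one]
      congr 2
      exact Finset.sum_congr rfl fun χ hχ => by rw [hv χ hχ, hd1 χ hχ, map_intCast]; ring
    exact_mod_cast h
  have hdge : ∀ χ ∈ B', (N : ℝ) - 1 ≤ (d χ : ℝ) := by
    intro χ hχ
    have h : (N : ℤ) - 1 ≤ d χ := by
      have h1 := hd χ hχ
      have h2 := hm χ hχ
      have h3 := hvm χ hχ
      have h4 : (0 : ℤ) ≤ ((N : ℤ) - 1) * (m χ - 1) :=
        mul_nonneg (by omega) (by omega)
      nlinarith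
    exact_mod_cast h
  have hKR : (0 : ℝ) < (K.card : ℝ) := Nat.cast_pos.2 hKpos
  have hlowR : ((p : ℝ) - 2) * (K.card : ℝ) ^ 2 ≤ ((p : ℝ) - 1) * (S.card : ℝ) := by
    have h : (((p - 2) * K.card ^ 2 : ℕ) : ℝ) ≤ (((p - 1) * S.card : ℕ) : ℝ) := by exact_mod_cast hlow
    rw [Nat.cast_mul, Nat.cast_mul, Nat.cast_sub (by omega), Nat.cast_sub (by omega)] at h
    push_cast at h
    exact h
  have hkey : (N : ℝ) * ((p : ℝ) - 2) / ((p : ℝ) - 1) ≤ 1 + ∑ χ ∈ B', (v χ : ℝ) ^ 3 / (d χ : ℝ) := by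
    have hp1 : (0 : ℝ) < (p : ℝ) - 1 := by
      have : (3 : ℝ) ≤ (p : ℝ) := by exact_mod_cast hp3
      linarith
    rw [div_le_iff₀ hp1]
    refine le_of_mul_le_mul_right ?_ (pow_pos hKR 2)
    calc (N : ℝ) * ((p : ℝ) - 2) * (K.card : ℝ) ^ 2
        = (N : ℝ) * (((p : ℝ) - 2) * (K.card : ℝ) ^ 2) := by ring
      _ ≤ (N : ℝ) * (((p : ℝ) - 1) * (S.card : ℝ)) :=
          mul_le_mul_of_nonneg_left hlowR (Nat.cast_nonneg _)
      _ = ((p : ℝ) - 1) * ((N : ℝ) * (S.card : ℝ)) := by ring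
      _ = _ := by rw [hS3R]; ring
  obtain ⟨e, he⟩ := IsPGroup.iff_card.1 P.2
  rw [← hN] at he
  have he1 : 1 ≤ e := Nat.pos_of_ne_zero fun h => by rw [he, h, pow_zero] at hN2; omega
  have hNp : p ≤ N := by rw [he]; exact Nat.le_self_pow (by omega) p
  by_cases hsmall : N = 3
  · -- `p = 3 = |P|`
    have hp3' : p = 3 := by omega
    rw [hsmall, hp3'] at hkey
    rw [hsmall] at hsqR hdge
    -- some character of the block is negative at `x`
    have hneg : ∃ χ ∈ B', (v χ) < 0 := by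
      by_contra hcon
      push Not at hcon
      have h0 := colSum_eq_zero (B := principalBlock M G) hM BrauerPairs.isPBlock_principal
        (x := x) (y := 1) (x' := 1) (y' := 1) hxk ⟨0, by rw [orderOf_one, pow_zero]⟩
        (by simpa using hp.out.one_lt.ne') (by simpa using hp.out.one_lt.ne') (Commute.one_right _)
        (Commute.one_right _) (fun h => hx1 (isConj_one_left.1 h))
      rw [mul_one, mul_one, colSum, finsum_mem_eq_toFinset_sum, ← hB, hsplitsum] at h0
      have h1 : (((1 + ∑ χ ∈ B', v χ * d χ : ℤ)) : ℂ) = 0 := by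
        rw [← h0, Int.cast_add, Int.cast_one, Int.cast_sum]
        congr 1
        · simp [BrauerPairs.oneIrr]
        · exact Finset.sum_congr rfl fun χ hχ => by
            rw [hv χ hχ, hd1 χ hχ, map_intCast, Int.cast_mul]
      have h2 : (0 : ℤ) ≤ ∑ χ ∈ B', v χ * d χ := Finset.sum_nonneg fun χ hχ => by
        refine mul_nonneg (hcon χ hχ) ?_
        have h := hdge χ hχ
        have h' : (0 : ℝ) ≤ (d χ : ℝ) := by push_cast at h; linarith
        exact_mod_cast h'
      have h3 := Int.cast_eq_zero.1 h1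
      omega
    have hterm : ∀ χ ∈ B', (v χ : ℝ) ^ 3 / (d χ : ℝ) ≤ (v χ : ℝ) ^ 2 / 4 := by
      intro χ hχ
      have h2 : (2 : ℝ) ≤ (d χ : ℝ) := by have := hdge χ hχ; push_cast at this; linarith
      rcases le_or_gt (v χ) 0 with hv0 | hv0
      · have hvr : (v χ : ℝ) ≤ 0 := by exact_mod_cast hv0
        refine le_trans (div_nonpos_of_nonpos_of_nonneg ?_ (by linarith)) (by positivity)
        nlinarith [sq_nonneg (v χ : ℝ)]
      · have hv1 : v χ = 1 := by
          by_contra h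
          have hsq2 : (v χ : ℝ) ^ 2 ≤ ((3 : ℕ) : ℝ) - 1 := by
            rw [hsqR]
            exact Finset.single_le_sum (f := fun χ => (v χ : ℝ) ^ 2) (fun χ _ => sq_nonneg _) hχ
          have : (2 : ℝ) ≤ (v χ : ℝ) := by exact_mod_cast (show (2 : ℤ) ≤ v χ by omega)
          push_cast at hsq2
          nlinarith
        have hd4 : (4 : ℝ) ≤ (d χ : ℝ) := by
          have h1 := hd χ hχ
          have h3 := hm χ hχ
          rw [hv1, hsmall] at h1
          exact_mod_cast (show (4 : ℤ) ≤ d χ by push_cast at h1; omega)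
        rw [hv1]
        norm_num
        rw [inv_le_comm₀ (by linarith) (by norm_num)]
        norm_num
        exact hd4
    obtain ⟨χ₀, hχ₀, hv₀⟩ := hneg
    have hlt : ∑ χ ∈ B', (v χ : ℝ) ^ 3 / (d χ : ℝ) < ∑ χ ∈ B', (v χ : ℝ) ^ 2 / 4 := by
      refine Finset.sum_lt_sum hterm ⟨χ₀, hχ₀, ?_⟩
      have hvr : (v χ₀ : ℝ) < 0 := by exact_mod_cast hv₀
      have h2 : (0 : ℝ) < (d χ₀ : ℝ) := by have := hdge χ₀ hχ₀; push_cast at this; linarith
      have hneg' : (v χ₀ : ℝ) ^ 3 < 0 := by nlinarith [mul_pos_of_neg_of_neg hvr hvr]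
      exact lt_trans (div_neg_of_neg_of_pos hneg' h2) (by nlinarith)
    rw [← Finset.sum_div, ← hsqR] at hlt
    push_cast at hkey hlt
    norm_num at hkey hlt
    linarith
  · have h5 : 5 ≤ N ∧ (p = 3 ∧ 9 ≤ N ∨ 5 ≤ p) := by
      by_cases hp33 : p = 3
      · subst hp33
        have : 2 ≤ e := by
          by_contra h
          exact hsmall (by rw [he, show e = 1 by omega, pow_one])
        have : 9 ≤ N := by rw [he]; exact le_trans (by norm_num) (Nat.pow_le_pow_right (by norm_num) this)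
        exact ⟨by omega, Or.inl ⟨rfl, this⟩⟩
      · have h5 : 5 ≤ p := by
          rcases Nat.lt_or_ge p 5 with h | h
          · exfalso
            have : p = 4 := by omega
            exact absurd (this ▸ hp.out) (by norm_num)
          · exact h
        exact ⟨by omega, Or.inr h5⟩
    set r := Real.sqrt ((N : ℝ) - 1) with hr
    have hN1 : (1 : ℝ) < (N : ℝ) := by exact_mod_cast hN2
    have hrpos : 0 < r := Real.sqrt_pos.2 (by linarith)
    have hr2 : r ^ 2 = (N : ℝ) - 1 := Real.sq_sqrt (by linarith)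
    have hterm : ∀ χ ∈ B', (v χ : ℝ) ^ 3 / (d χ : ℝ) ≤ (v χ : ℝ) ^ 2 / r := by
      intro χ hχ
      have hd0 : (0 : ℝ) < (d χ : ℝ) := lt_of_lt_of_le (by linarith) (hdge χ hχ)
      rw [div_le_div_iff₀ hd0 hrpos]
      have hvr : (v χ : ℝ) ≤ r := by
        refine le_trans (le_abs_self _) (Real.abs_le_sqrt ?_)
        rw [hsqR]
        exact Finset.single_le_sum (f := fun χ => (v χ : ℝ) ^ 2) (fun χ _ => sq_nonneg _) hχ
      calc (v χ : ℝ) ^ 3 * r = (v χ : ℝ) ^ 2 * ((v χ : ℝ) * r) := by ring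
        _ ≤ (v χ : ℝ) ^ 2 * (r * r) := mul_le_mul_of_nonneg_left
            (mul_le_mul_of_nonneg_right hvr hrpos.le) (sq_nonneg _)
        _ ≤ (v χ : ℝ) ^ 2 * (d χ : ℝ) := mul_le_mul_of_nonneg_left
            (by rw [← sq, hr2]; exact hdge χ hχ) (sq_nonneg _)
    have hle : ∑ χ ∈ B', (v χ : ℝ) ^ 3 / (d χ : ℝ) ≤ r := by
      refine le_trans (Finset.sum_le_sum hterm) ?_
      rw [← Finset.sum_div, ← hsqR, div_le_iff₀ hrpos, ← sq, hr2]
    have hfin := arith (p := (p : ℝ)) (N := (N : ℝ)) (by exact_mod_cast h5.1) (by exact_mod_cast hp3)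
      (h5.2.imp (fun h => ⟨by exact_mod_cast h.1, by exact_mod_cast h.2⟩) fun h => by exact_mod_cast h)
    linarith

end Cfsg.Agent.PairsRegular
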